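import Cfsg.Agent.H821.K547.Defs
import Cfsg.Agent.H967.K4.Typ
import Cfsg.Agent.H612.BNAut
import Cfsg.Agent.Mrg.Omega.ML.Ex.Typ.List
import Cfsg.Agent.KFacts.RgdDiag

/-!
# S4547, `q` even: the interface (sub-hub helper307; plan `tools/plans/S4547_even.md`)

* `OS φ χ` : `χ` is irreducible of odd degree, `SF` (fixed by `σ`) and `φ`-invariant;
* `Nrm R β σ` : the automorphism `β` of `2`-power order normalises `U`, `B`, `U⁻`, `B⁻`, `T`, maps `X (±α_i)` to
  `X (±α_(σ i))` and permutes the parabolic subgroups by the symmetry `σ` of the Coxeter matrix;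
* `exists_nrm` : every `τ` with `TwoPow τ` is normalised by an inner automorphism;
* `GInv3.of_os`, `gInv3_conj` : three `OS` characters give `GInv3`.
-/

set_option autoImplicit false
set_option linter.unusedSectionVars false

open scoped ComplexConjugate
open Cfsg

namespace Cfsg.Agent.H307.QE

open Cfsg.Agent.Characters Cfsg.Agent.H601.K4 Cfsg.Agent.H967.K4 Cfsg.Agent.H821.K547
open CoxeterSystem Cfsg.Agent.ChevalleyStructure.CoxeterGeom Cfsg.Agent.Tits.Roots Cfsg.Agent.Tits.Core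
  Cfsg.Agent.Tits.Exchange Cfsg.Agent.Nodes.Reps Cfsg.Agent.Nodes.BNOf Cfsg.Agent.Nodes.StabComb
  Cfsg.Agent.Nodes.Bruhat Cfsg.Agent.Nodes.OppDec Cfsg.Agent.Nodes.LeviDec Cfsg.Agent.H53.HC
  Cfsg.Agent.H246.Dl Cfsg.Agent.KFacts.RgdAut Cfsg.Agent.KFacts.RgdDiag

universe u

section OS

variable {G : Type u} [Group G]

/-- irreducible of odd degree, fixed by `σ`, invariant under `φ` -/
structure OS (φ : MulAut G) (χ : G → ℂ) : Prop where
  odd : OddIrr χ
  sf : SF χ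
  fix : ∀ x, χ (φ x) = χ x

theorem one_os (φ : MulAut G) : OS φ (1 : G → ℂ) :=
  ⟨⟨Core.isIrr_one, by simp [charDegree]⟩, SF.one, fun _ => rfl⟩

end OS

section autos

variable {S : Type u} [Group S]

theorem pow_apply_conj (g : S) (τ : MulAut S) (x : S) : (MulAut.conj g * τ) x = g * τ x * g⁻¹ := rfl

/-- `TwoPow` modulo inner automorphisms -/
theorem exists_pow_conj (g : S) (τ : MulAut S) (m : ℕ) :
    ∃ s : S, (MulAut.conj g * τ) ^ m = MulAut.conj s * τ ^ m := by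
  induction m with
  | zero => exact ⟨1, by simp⟩
  | succ m ih =>
    obtain ⟨s, hs⟩ := ih
    refine ⟨s * (τ ^ m) g, ?_⟩
    rw [pow_succ, hs, pow_succ]
    ext x
    simp only [MulAut.mul_apply, MulAut.conj_apply, map_mul, map_inv, mul_inv_rev, mul_assoc]

theorem TwoPow.conj_mul {τ : MulAut S} (hτ : TwoPow τ) (g : S) : TwoPow (MulAut.conj g * τ) := by
  obtain ⟨k, s, hs⟩ := hτ
  obtain ⟨s', hs'⟩ := exists_pow_conj g τ (2 ^ k)
  refine ⟨k, s' * s, fun x => ?_⟩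
  rw [hs', MulAut.mul_apply, hs, MulAut.conj_apply]
  group

theorem gInv3_conj {τ : MulAut S} (g : S) (h : GInv3 (MulAut.conj g * τ)) : GInv3 τ := by
  obtain ⟨χ, h1, h2⟩ := h
  refine ⟨χ, h1, fun i => ⟨(h2 i).1, fun x => ?_⟩⟩
  have h3 := (h2 i).2 x
  rw [MulAut.mul_apply, MulAut.conj_apply] at h3
  rw [← h3]
  exact (Core.isIrr_isClassFunction (h2 i).1.odd.1 (τ x) g).symm

/-- three `φ`-fixed characters -/
theorem GInv3.of_os [Finite S] (hT : H601.OddDeg.TwoC S) {φ : MulAut S} {χ₀ χ₁ χ₂ : S → ℂ} (h0 : OS φ χ₀)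
    (h1 : OS φ χ₁) (h2 : OS φ χ₂) (h01 : χ₀ ≠ χ₁) (h02 : χ₀ ≠ χ₂) (h12 : χ₁ ≠ χ₂) : GInv3 φ := by
  have hg : ∀ {χ : S → ℂ}, OS φ χ → Good χ ∧ ∀ x, χ (φ x) = χ x := fun h => ⟨h.sf.good h.odd hT, h.fix⟩
  refine ⟨![χ₀, χ₁, χ₂], ?_, ?_⟩
  · intro i j hij
    fin_cases i <;> fin_cases j <;> first | rfl | (exfalso; revert hij; simp_all [Ne.symm])
  · intro i
    fin_cases i
    · exact hg h0
    · exact hg h1
    · exact hg h2

end autos

section rgd

variable {I W : Type*} {Y : Type u} [Fintype I] [DecidableEq I] [Group W] [Group Y] {M : CoxeterMatrix I}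
  {cs : CoxeterSystem M W} {A : I → I → ℤ} {h : IsCartan M A} {T : Subgroup Y} {n : I → Y}
  {X : (I → ℤ) → Subgroup Y}

/-- A normalised automorphism with its permutation of the nodes. -/
structure Nrm (_R : RGD cs h 2 T n X) (β : MulAut Y) (σ : Equiv.Perm I) : Prop where
  pow : ∃ k : ℕ, β ^ 2 ^ k = 1
  fixU : Fix β (RGD.Sup X (RGD.Pos cs h))
  fixB : Fix β (RGD.B cs h T X)
  fixUN : Fix β (UN cs h X)
  fixBN : Fix β (BN cs h T X)
  fixT : Fix β T
  diag : Diag T X β σ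
  map_PJ : ∀ K : Set I, (PJ cs h T X K).map β.toMonoidHom = PJ cs h T X (σ '' K)
  map_VJ : ∀ K : Set I, (VJ cs h X K).map β.toMonoidHom = VJ cs h X (σ '' K)
  sym : ∀ i j, M (σ i) (σ j) = M i j

variable (R : RGD cs h 2 T n X)

include R

theorem map_PJ_of_diag [Finite W] (hG : GG cs h T X = ⊤) {α : MulAut Y} (hB : Fix α (RGD.B cs h T X))
    {σ : Equiv.Perm I} (D : Diag T X α σ) (K : Set I) :
    (PJ cs h T X K).map α.toMonoidHom = PJ cs h T X (σ '' K) := by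
  rw [PJ_nodes R hG hB]
  congr 1
  have hmem : ∀ i, σ i ∈ nodes cs h T n X α K ↔ i ∈ K := by
    intro i
    have h1 : Rp cs R.nsys (cs.simple i) (α⁻¹ (n (σ i))) := by
      have := D.inv.rp (R := R) (σ i)
      rwa [show σ⁻¹ (σ i) = i from σ.symm_apply_apply i] at this
    have h2 : α⁻¹ (n (σ i)) ∈ PJ cs h T X K ↔ i ∈ K := by
      rw [← n_mem_PJ_iff R K i, cell_mem_PJ_iff R (cell_of_rp h1), cell_mem_PJ_iff R (cell_of_rp (rp_simple cs R.nsys i))]
    rw [← h2]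
    constructor
    · rintro ⟨y, hy, e⟩
      have e' : α y = n (σ i) := e
      rwa [← e', MulAut.inv_apply_self]
    · intro h3
      exact ⟨_, h3, MulAut.apply_inv_self _ _ _⟩
  ext j
  constructor
  · intro hj
    obtain ⟨i, rfl⟩ := σ.surjective j
    exact ⟨i, (hmem i).1 hj, rfl⟩
  · rintro ⟨i, hi, rfl⟩
    exact (hmem i).2 hi

theorem perm_sym [Finite W] [Finite Y] (hG : GG cs h T X = ⊤) {α : MulAut Y} (hB : Fix α (RGD.B cs h T X))
    {σ : Equiv.Perm I} (hσ : ∀ K : Set I, (PJ cs h T X K).map α.toMonoidHom = PJ cs h T X (σ '' K)) (i j : I) :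
    M (σ i) (σ j) = M i j := by
  have hgen : RGD.B cs h T X ⊔ NN cs R.nsys = ⊤ := by
    have h1 : GG cs h T X ≤ RGD.B cs h T X ⊔ NN cs R.nsys := by
      intro g hg
      obtain ⟨w, b₁, hb₁, k, hk, b₂, hb₂, rfl⟩ := (mem_GG R).1 hg
      exact mul_mem (mul_mem (le_sup_left (a := RGD.B cs h T X) (b := NN cs R.nsys) hb₁)
        (le_sup_right (a := RGD.B cs h T X) (b := NN cs R.nsys) ⟨w, hk⟩))
        (le_sup_left (a := RGD.B cs h T X) (b := NN cs R.nsys) hb₂)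
    rw [eq_top_iff, ← hG]
    exact h1
  let P := R.bnPair hgen
  let e : I ≃ P.S := Equiv.ofInjective n R.n_injective
  obtain ⟨hN, cs', hcs⟩ : BNType P M e := Cfsg.Agent.Omega.ML.Ex.Typ.bnType R hgen
  have hPJ : ∀ K : Set I, H612.BNCosets.PJ P e K = PJ cs h T X K := by
    intro K
    have h1 : RGD.B cs h T X ≤ H612.BNCosets.PJ P e K := H612.BNCosets.B_le_PJ P e K
    have h2 := inf_eq_PJ R h1
    rw [hG, inf_top_eq] at h2
    rw [h2]
    congr 1
    ext i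
    have h3 : H612.BNCosets.PJ P e {i} ≤ H612.BNCosets.PJ P e K ↔ i ∈ K := by
      rw [H612.BNAut.PJ_le_iff, Set.singleton_subset_iff]
    rw [← h3]
    constructor
    · intro hi
      refine sup_le h1 ?_
      rw [Subgroup.closure_le, H612.BNAut.gens_singleton, Set.singleton_subset_iff]
      exact hi
    · intro hi
      refine hi ((le_sup_right : Subgroup.closure (H612.BNCosets.gens P e {i}) ≤ _) (Subgroup.subset_closure ?_))
      rw [H612.BNAut.gens_singleton]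
      rfl
  refine H612.BNAut.label_eq P e cs' hcs α ((fix_iff).1 hB) σ (fun K => ?_) i j
  rw [hPJ, hPJ]
  exact hσ K

theorem mem_T_of_conj [Finite W] (hG : GG cs h T X = ⊤) {s : Y} (hU : Fix (MulAut.conj s) (RGD.Sup X (RGD.Pos cs h)))
    (hUN : Fix (MulAut.conj s) (UN cs h X)) : s ∈ T := by
  have h1 : s ∈ RGD.B cs h T X := by
    rw [← normalizer_U' R hG, Subgroup.mem_normalizer_iff]
    intro x
    exact (hU x).symm
  have h2 : s ∈ BN cs h T X := by
    have h4 := normalizer_U' (KFacts.RgdOpp.opp R) (by rw [KFacts.RgdOpp.GG_opp]; exact hG)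
    rw [KFacts.RgdOpp.U_opp, KFacts.RgdOpp.B_opp] at h4
    rw [← h4, Subgroup.mem_normalizer_iff]
    intro x
    exact (hUN x).symm
  have h5 : s ∈ RGD.B cs h T X ⊓ BN cs h T X := ⟨h1, h2⟩
  rwa [B_inf_BN R] at h5

omit R in
theorem Fix.pow {α : MulAut Y} {H : Subgroup Y} (hα : Fix α H) (m : ℕ) : Fix (α ^ m) H := by
  induction m with
  | zero => intro x; rfl
  | succ m ih => rw [pow_succ]; exact ih.mul hα

/-- an automorphism fixing `U` and `U⁻` is normalised -/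
theorem nrm_of_fix [Finite W] [Finite Y] (hG : GG cs h T X = ⊤) {β : MulAut Y} (hpow : ∃ k : ℕ, β ^ 2 ^ k = 1)
    (hU : Fix β (RGD.Sup X (RGD.Pos cs h))) (hUN : Fix β (UN cs h X)) : ∃ σ : Equiv.Perm I, Nrm R β σ := by
  obtain ⟨σ, D⟩ := exists_diag R hG hU hUN
  have hB := fix_B R hG hU
  have hBN : Fix β (BN cs h T X) := by
    have := fix_B (KFacts.RgdOpp.opp R) (by rw [KFacts.RgdOpp.GG_opp]; exact hG) (α := β)
      (by rw [KFacts.RgdOpp.U_opp]; exact hUN)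
    rwa [KFacts.RgdOpp.B_opp] at this
  have hP := map_PJ_of_diag R hG hB D
  exact ⟨σ, hpow, hU, hB, hUN, hBN, D.tor, D, hP, fun K => map_VJ R hU (hP K), perm_sym R hG hB hP⟩

/-- **Normalisation.** -/
theorem exists_nrm [Finite W] [Finite Y] (hG : GG cs h T X = ⊤) {τ : MulAut Y} (hτ : TwoPow τ) :
    ∃ (g : Y) (σ : Equiv.Perm I), Nrm R (MulAut.conj g * τ) σ := by
  have : Fact (Nat.Prime 2) := ⟨Nat.prime_two⟩
  obtain ⟨g₀, hg₀⟩ := exists_fixU R hG τ
  obtain ⟨u, hu, hU, hB, hUN, hBN, hT⟩ := exists_frame R hG hg₀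
  set β₁ : MulAut Y := MulAut.conj u * (MulAut.conj g₀ * τ) with hβ₁
  obtain ⟨k, s, hs⟩ := (TwoPow.conj_mul (TwoPow.conj_mul hτ g₀) u)
  have hs' : β₁ ^ 2 ^ k = MulAut.conj s := by
    ext x
    rw [MulAut.conj_apply, ← hs x]
  have hsT : s ∈ T := by
    refine mem_T_of_conj R hG ?_ ?_
    · rw [← hs']; exact Fix.pow hU _
    · rw [← hs']; exact Fix.pow hUN _
  set m := Nat.card T with hm
  have hsm : s ^ m = 1 := by
    have := pow_card_eq_one' (x := (⟨s, hsT⟩ : T))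
    exact congrArg Subtype.val this
  obtain ⟨a, ha1, ha2⟩ := Nat.chineseRemainder (n := 2 ^ k) (m := m) (Nat.Coprime.pow_left _ R.tcop.symm) 1 0
  have ha3 : m ∣ a := (Nat.modEq_zero_iff_dvd).1 ha2
  -- `a = 1 + 2 ^ k c` modulo `2 ^ k m`
  obtain ⟨c, hc⟩ : ∃ c : ℕ, a + 2 ^ k * m = 1 + 2 ^ k * c := by
    have h1 : 1 ≡ a + 2 ^ k * m [MOD 2 ^ k] := by
      have h2 : a + 2 ^ k * m ≡ 1 + 0 [MOD 2 ^ k] := Nat.ModEq.add ha1 ((Nat.modEq_zero_iff_dvd).2 (dvd_mul_right _ _))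
      exact h2.symm
    have hpos : 1 ≤ a + 2 ^ k * m := by
      have : 0 < 2 ^ k * m := Nat.mul_pos (by positivity) Nat.card_pos
      omega
    obtain ⟨c, hc⟩ := (Nat.modEq_iff_dvd' hpos).1 h1
    exact ⟨c, by omega⟩
  have hpow : β₁ ^ (a + 2 ^ k * m) = MulAut.conj (s ^ c) * β₁ := by
    rw [hc, add_comm, pow_add, pow_one, pow_mul, hs', map_pow]
  have e : MulAut.conj (s ^ c * (u * g₀)) * τ = β₁ ^ (a + 2 ^ k * m) := by
    rw [hpow, hβ₁, map_mul, map_mul]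
    simp only [mul_assoc]
  have h3 : (β₁ ^ (a + 2 ^ k * m)) ^ 2 ^ k = 1 := by
    rw [← pow_mul, mul_comm, pow_mul, hs']
    obtain ⟨b, rfl⟩ := ha3
    rw [← map_pow, pow_add, pow_mul, hsm, one_pow, mul_comm (2 ^ k) m, pow_mul, hsm, one_pow, one_mul, map_one]
  obtain ⟨σ, hσ⟩ := nrm_of_fix R hG ⟨k, h3⟩ (Fix.pow hU (a + 2 ^ k * m)) (Fix.pow hUN _)
  exact ⟨s ^ c * (u * g₀), σ, by rw [e]; exact hσ⟩

end rgd

section restrict

variable {G : Type u} [Group G]

/-- the restriction of an automorphism to an invariant subgroup -/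
def rAut (β : MulAut G) {H : Subgroup G} (hH : Fix β H) : MulAut H where
  toFun x := ⟨β x, (hH x).2 x.2⟩
  invFun x := ⟨β⁻¹ x, (hH.inv x).2 x.2⟩
  left_inv x := Subtype.ext (MulAut.inv_apply_self _ β (x : G))
  right_inv x := Subtype.ext (MulAut.apply_inv_self _ β (x : G))
  map_mul' x y := Subtype.ext (map_mul β (x : G) y)

@[simp] theorem rAut_coe (β : MulAut G) {H : Subgroup G} (hH : Fix β H) (x : H) : ((rAut β hH x : H) : G) = β x := rfl

theorem rAut_pow (β : MulAut G) {H : Subgroup G} (hH : Fix β H) (m : ℕ) (x : H) :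
    (((rAut β hH) ^ m) x : G) = (β ^ m) x := by
  induction m generalizing x with
  | zero => rfl
  | succ m ih =>
    rw [pow_succ, pow_succ, MulAut.mul_apply, MulAut.mul_apply, ih]
    rfl

theorem rAut_pow_eq_one {β : MulAut G} {H : Subgroup G} (hH : Fix β H) {m : ℕ} (h : β ^ m = 1) :
    (rAut β hH) ^ m = 1 := by
  ext x
  rw [rAut_pow, h]
  rfl

end restrict

section levi

variable {I W : Type*} {Y : Type u} [Fintype I] [DecidableEq I] [Group W] [Group Y] {M : CoxeterMatrix I}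
  {cs : CoxeterSystem M W} {A : I → I → ℤ} {h : IsCartan M A} {T : Subgroup Y} {n : I → Y}
  {X : (I → ℤ) → Subgroup Y} {R : RGD cs h 2 T n X} {β : MulAut Y} {σ : Equiv.Perm I}

theorem Nrm.inv (hN : Nrm R β σ) [Finite W] [Finite Y] (hG : GG cs h T X = ⊤) : Nrm R β⁻¹ σ⁻¹ := by
  have hD := hN.diag.inv
  have hP := map_PJ_of_diag R hG hN.fixB.inv hD
  refine ⟨?_, hN.fixU.inv, hN.fixB.inv, hN.fixUN.inv, hN.fixBN.inv, hN.fixT.inv, hD, hP,
    fun K => Cfsg.Agent.H246.Dl.map_VJ R hN.fixU.inv (hP K), perm_sym R hG hN.fixB.inv hP⟩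
  obtain ⟨k, hk⟩ := hN.pow
  exact ⟨k, by rw [inv_pow, hk, inv_one]⟩

theorem mem_MJ_of_mem (R : RGD cs h 2 T n X) [Finite W] (hD : Diag T X β σ) {K : Set I} {x : Y} (hx : x ∈ MJ cs h X K) :
    β x ∈ MJ cs h X (σ '' K) := by
  have hw : ∀ w ∈ WJ cs K, ∃ g, Rp cs R.nsys w g ∧ ∃ v ∈ WJ cs (σ '' K), Rp cs R.nsys v (β g) := by
    intro w hw
    unfold WJ at hw
    induction hw using Subgroup.closure_induction with
    | mem w hw =>
      obtain ⟨i, hi, rfl⟩ := hw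
      exact ⟨n i, rp_simple cs R.nsys i, cs.simple (σ i), simple_mem_WJ cs ⟨i, hi, rfl⟩, hD.rp (R := R) i⟩
    | one => exact ⟨1, rp_one, 1, one_mem _, by rw [map_one]; exact rp_one⟩
    | mul a b _ _ iha ihb =>
      obtain ⟨g, hg, v, hv, hvg⟩ := iha
      obtain ⟨g', hg', v', hv', hvg'⟩ := ihb
      exact ⟨g * g', hg.mul hg', v * v', mul_mem hv hv', by rw [map_mul]; exact hvg.mul hvg'⟩
    | inv a _ iha =>
      obtain ⟨g, hg, v, hv, hvg⟩ := iha
      exact ⟨g⁻¹, hg.inv, v⁻¹, inv_mem hv, by rw [map_inv]; exact hvg.inv⟩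
  have hle : MJ cs h X K ≤ (MJ cs h X (σ '' K)).comap β.toMonoidHom := by
    refine RGD.Sup_le fun y hy => ?_
    obtain ⟨w, hwK, j, hj, rfl⟩ := exists_of_mem_RootsJ hy
    obtain ⟨g, hg, v, hv, hvg⟩ := hw w hwK
    intro z hz
    have h1 : g⁻¹ * z * g ∈ X (sr j) := by
      have := R.conj_mem' hg ((isRoot_sr cs h j).act w) hz
      rwa [rep_inv_apply] at this
    have h2 : β (g⁻¹ * z * g) ∈ X (sr (σ j)) := (hD.pos j _).2 h1
    have h3 := R.conj_mem hvg (isRoot_sr cs h (σ j)) h2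
    have e : β g * β (g⁻¹ * z * g) * (β g)⁻¹ = β z := by
      rw [map_mul, map_mul, map_inv]; group
    rw [e] at h3
    have h4 : rep cs h v (sr (σ j)) ∈ RootsJ cs h (σ '' K) :=
      RootsJ.act hv (PosJ_subset _ (sr_mem_PosJ ⟨j, hj, rfl⟩))
    exact RGD.le_Sup h4 h3
  exact hle hx

theorem Nrm.fixMJ (hN : Nrm R β σ) [Finite W] [Finite Y] (hG : GG cs h T X = ⊤) {K : Set I} (hK : σ '' K = K) :
    Fix β (MJ cs h X K) := by
  intro x
  constructor
  · intro hx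
    have h1 := mem_MJ_of_mem R (hN.inv hG).diag hx
    have h2 : (σ⁻¹ : Equiv.Perm I) '' K = K := by
      conv_lhs => rw [← hK]
      rw [← Set.image_comp]
      simp
    rwa [h2, MulAut.inv_apply_self] at h1
  · intro hx
    have h1 := mem_MJ_of_mem R hN.diag hx
    rwa [hK] at h1

theorem Nrm.fixVJ (hN : Nrm R β σ) {K : Set I} (hK : σ '' K = K) : Fix β (VJ cs h X K) := by
  rw [fix_iff, hN.map_VJ, hK]

theorem Nrm.fixPJ (hN : Nrm R β σ) {K : Set I} (hK : σ '' K = K) : Fix β (PJ cs h T X K) := by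
  rw [fix_iff, hN.map_PJ, hK]

end levi

end Cfsg.Agent.H307.QE
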