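import Cfsg.Agent.H307.QE.Par
import Cfsg.Agent.H967.K4.Crit

/-!
# Lifting `OS` characters from Levi subgroups (S4547, `q` even; helper307)

* `os_lift` : `σ K = K`, `θ` an `OS` character of `M_K`: an `OS` character `χ` of `Y` over the inflation of `θ`;
  `HasFix χ (V_K)`, `χ ≠ 1` if `θ ≠ 1`, `HT χ K` if `θ` is cuspidal;
* `os_type` : a nontrivial `OS` character with `V_K`-fixed vectors;
* `gInv3_edge` : Theorem E.
-/

set_option autoImplicit false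
set_option linter.unusedSectionVars false

open scoped ComplexConjugate
open Cfsg

namespace Cfsg.Agent.H307.QE

open Cfsg.Agent.OddOrderCharacters.Clifford Cfsg.Agent.Characters Cfsg.Agent.H601.K4 Cfsg.Agent.H967.K4
  Cfsg.Agent.H821.K547
open CoxeterSystem Cfsg.Agent.ChevalleyStructure.CoxeterGeom Cfsg.Agent.Tits.Roots Cfsg.Agent.Tits.Core
  Cfsg.Agent.Tits.Exchange Cfsg.Agent.Nodes.Reps Cfsg.Agent.Nodes.BNOf Cfsg.Agent.Nodes.StabComb
  Cfsg.Agent.Nodes.Bruhat Cfsg.Agent.Nodes.OppDec Cfsg.Agent.Nodes.LeviDec Cfsg.Agent.H53.HC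
  Cfsg.Agent.H246.Dl Cfsg.Agent.KFacts.RgdAut Cfsg.Agent.KFacts.RgdDiag
open scoped Pointwise

universe u

section grp

variable {P : Type u} [Group P]

/-- induced characters and automorphisms -/
theorem indFun_fix [Fintype P] {D : Subgroup P} {ψ : D → ℂ} {β : MulAut P} (hD : Fix β D)
    (hψ : ∀ d : D, ψ ⟨β d, (hD d).2 d.2⟩ = ψ d) (x : P) : indFun D ψ (β x) = indFun D ψ x := by
  rw [S0150.indFun_apply, S0150.indFun_apply]
  congr 1
  symm
  refine Fintype.sum_bijective (fun y : P => β y) β.bijective _ _ fun y => ?_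
  have e : (β y)⁻¹ * β x * β y = β (y⁻¹ * x * y) := by rw [map_mul, map_mul, map_inv]
  rw [e]
  by_cases h : y⁻¹ * x * y ∈ D
  · rw [ext_apply_mem D ψ _ h, ext_apply_mem D ψ _ ((hD _).2 h)]
    exact (hψ ⟨_, h⟩).symm
  · rw [ext_apply_not_mem D ψ _ h, ext_apply_not_mem D ψ _ fun h' => h ((hD _).1 h')]

theorem fix_sup {V M : Subgroup P} {β : MulAut P} (hV : Fix β V) (hM : Fix β M) : Fix β (V ⊔ M) := by
  rw [fix_iff] at hV hM ⊢
  rw [Subgroup.map_sup, hV, hM]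

/-- the inflation of an invariant function -/
theorem infl_fix {V M : Subgroup P} (hn : M ≤ Subgroup.normalizer (V : Set P)) {π : ↥(V ⊔ M) →* M}
    (hπ : ∀ (v : P) (hv : v ∈ V) (m : M), π ⟨v * m, mul_mem_sup V M hv m.2⟩ = m) {β : MulAut P} (hV : Fix β V)
    (hM : Fix β M) {θ : M → ℂ} (hθ : ∀ x, θ (rAut β hM x) = θ x) (d : ↥(V ⊔ M)) :
    (θ ∘ π) ⟨β d, ((fix_sup hV hM) d).2 d.2⟩ = (θ ∘ π) d := by
  obtain ⟨g, hg⟩ := d
  obtain ⟨v, hv, m, hm, rfl⟩ := mem_sup V M hn hg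
  rw [Function.comp_apply, Function.comp_apply]
  have h1 := hπ v hv ⟨m, hm⟩
  have h2 := hπ (β v) ((hV v).2 hv) (rAut β hM ⟨m, hm⟩)
  have e : (⟨β (v * m), ((fix_sup hV hM) (v * m)).2 hg⟩ : ↥(V ⊔ M)) =
      ⟨β v * (rAut β hM ⟨m, hm⟩ : M), mul_mem_sup V M ((hV v).2 hv) (rAut β hM ⟨m, hm⟩).2⟩ :=
    Subtype.ext (map_mul β v m)
  have e1 : π ⟨β (v * m), ((fix_sup hV hM) (v * m)).2 hg⟩ = rAut β hM ⟨m, hm⟩ := by rw [e]; exact h2
  change θ (π ⟨β (v * m), _⟩) = θ (π ⟨v * m, hg⟩)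
  rw [e1, hθ]
  congr 1
  exact h1.symm

/-- **`OS` characters over a character of `M`, inflated to `V M`.** -/
theorem exists_os_over [Fintype P] (V M : Subgroup P) [Fintype V] [Fintype M]
    (hn : M ≤ Subgroup.normalizer (V : Set P)) (hVM : ∀ x, x ∈ V → x ∈ M → x = 1) (hidx : Odd (V ⊔ M).index)
    {β : MulAut P} {k : ℕ} (hβ : β ^ 2 ^ k = 1) (hV : Fix β V) (hM : Fix β M)
    {θ : M → ℂ} (hθ : OS (rAut β hM) θ) :
    ∃ χ : P → ℂ, OS β χ ∧ ms V M χ θ ≠ 0 := by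
  classical
  obtain ⟨π, hπ⟩ := exists_proj V M hn hVM
  have : Fintype ↥(V ⊔ M) := Fintype.ofFinite _
  have hθc : IsCharacter _ (θ ∘ π) := Core.isCharacter_comp π (Core.isIrr_isCharacter hθ.odd.1)
  have hΦ := Cfsg.Agent.S0148.result (V ⊔ M) _ hθc
  obtain ⟨d, hd⟩ : ∃ d : ℕ, θ 1 = d := Core.isCharacter_apply_one (Core.isIrr_isCharacter hθ.odd.1)
  have hdo : Odd d := by
    have h1 : charDegree θ = d := by rw [charDegree, hd]; simp
    have h2 := hθ.odd.2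
    rw [h1] at h2
    rwa [← Nat.not_even_iff_odd, even_iff_two_dvd]
  have h1 : indFun (V ⊔ M) (θ ∘ π) 1 = (((V ⊔ M).index * d : ℕ) : ℂ) := by
    rw [Cfsg.Agent.OddOrderCharacters.IndRes.indFun_apply_one, Function.comp_apply, map_one, hd]
    push_cast
    rfl
  obtain ⟨χ, hχ, hne⟩ := exists_os_const hβ hΦ h1 (hidx.mul hdo) (hθ.sf.comp π).ind
    (indFun_fix (fix_sup hV hM) (infl_fix hn hπ hV hM hθ.fix))
  refine ⟨χ, hχ, ?_⟩
  rw [classInner_indFun _ _ _ (Core.isIrr_isClassFunction hχ.odd.1)] at hne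
  rw [ms_eq V M hn hVM hπ]
  exact mul_ne_zero Core.card_ne_zero_complex (classInner_symm_ne hne)

end grp

section rgd

variable {I W : Type*} {Y : Type u} [Fintype I] [DecidableEq I] [Group W] [Group Y] {M : CoxeterMatrix I}
  {cs : CoxeterSystem M W} {A : I → I → ℤ} {h : IsCartan M A} {T : Subgroup Y} {n : I → Y}
  {X : (I → ℤ) → Subgroup Y}

variable (R : RGD cs h 2 T n X)

include R

theorem MJ_le_norm [Finite W] (K : Set I) : MJ cs h X K ≤ Subgroup.normalizer (VJ cs h X K : Set Y) :=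
  le_trans (le_trans (MJ_le_LJ (T := T) K) LJ_le_PJ) (PJ_le_normalizer_VJ R K)

theorem VJ_MJ_one [Finite W] (K : Set I) (x : Y) (h1 : x ∈ VJ cs h X K) (h2 : x ∈ MJ cs h X K) : x = 1 :=
  eq_one_of_mem_LJ_of_mem_VJ (T := T) R (MJ_le_LJ K h2) h1

theorem U_le_sup [Finite W] (K : Set I) : RGD.Sup X (RGD.Pos cs h) ≤ VJ cs h X K ⊔ MJ cs h X K := by
  intro g hg
  obtain ⟨u, hu, v, hv, rfl⟩ := (mem_U_iff R (J := K)).1 hg
  exact mul_mem (le_sup_right (a := VJ cs h X K) (RGD.Sup_mono (PosJ_subset K) hu))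
    (le_sup_left (b := MJ cs h X K) hv)

/-- **Lifting.** -/
theorem os_lift [Finite W] [Fintype Y] (hG : GG cs h T X = ⊤) {β : MulAut Y} {σ : Equiv.Perm I} (hN : Nrm R β σ)
    {K : Set I} (hK : σ '' K = K) [Fintype (VJ cs h X K)] [Fintype (MJ cs h X K)] {θ : ↥(MJ cs h X K) → ℂ}
    (hθ : OS (rAut β (hN.fixMJ hG hK)) θ) :
    ∃ χ : Y → ℂ, OS β χ ∧ ms (VJ cs h X K) (MJ cs h X K) χ θ ≠ 0 := by
  obtain ⟨k, hk⟩ := hN.pow
  exact exists_os_over _ _ (MJ_le_norm R K) (VJ_MJ_one R K) (odd_index_of_le R hG (U_le_sup R K)) hk (hN.fixVJ hK)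
    (hN.fixMJ hG hK) hθ

/-- the fixed vectors -/
theorem hasFix_VJ [Finite W] [Finite Y] {K : Set I} [Fintype (VJ cs h X K)] [Fintype (MJ cs h X K)]
    {θ : ↥(MJ cs h X K) → ℂ} {χ : Y → ℂ} (hχ : IsIrrCharacter Y χ)
    (hne : ms (VJ cs h X K) (MJ cs h X K) χ θ ≠ 0) : HasFix χ (VJ cs h X K) :=
  hasFix_of_ms (VJ cs h X K) (MJ cs h X K) (MJ_le_norm R K) hχ hne

omit R in
theorem ms_one_eq_zero {P : Type u} [Group P] [Finite P] (V M' : Subgroup P) [Fintype V] [Fintype M'] {θ : M' → ℂ}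
    (hθ : IsIrrCharacter M' θ) (h1 : θ ≠ 1) : ms V M' (1 : P → ℂ) θ = 0 := by
  have h2 : ∑ m : M', conj (θ m) = 0 := by
    have h3 := Core.classInner_irr_ne Core.isIrr_one hθ (Ne.symm h1)
    rw [Core.classInner_def] at h3
    have h4 := (mul_eq_zero.1 h3).resolve_left (inv_ne_zero Core.card_ne_zero_complex)
    rw [← h4]
    refine Finset.sum_congr rfl fun m _ => ?_
    rw [Pi.one_apply, one_mul]
  rw [ms]
  refine Finset.sum_eq_zero fun v _ => ?_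
  rw [← h2]
  refine Finset.sum_congr rfl fun m _ => ?_
  rw [Pi.one_apply, one_mul]

/-- **A nontrivial `OS` character with `V_K`-fixed vectors.** -/
theorem os_type [Finite W] [Finite Y] (hG : GG cs h T X = ⊤) {β : MulAut Y} {σ : Equiv.Perm I} (hN : Nrm R β σ)
    {K : Set I} (hK : σ '' K = K) (hne : K.Nonempty) :
    ∃ χ : Y → ℂ, OS β χ ∧ χ ≠ 1 ∧ HasFix χ (VJ cs h X K) := by
  classical
  have : Fintype Y := Fintype.ofFinite Y
  have : Fintype (VJ cs h X K) := Fintype.ofFinite _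
  have : Fintype (MJ cs h X K) := Fintype.ofFinite _
  have h2 : 2 ∣ Nat.card (MJ cs h X K) := by
    obtain ⟨i, hi⟩ := hne
    obtain ⟨a, ha⟩ := card_X_sr R i
    have h3 : X (sr i) ≤ MJ cs h X K := RGD.le_Sup (PosJ_subset K (sr_mem_PosJ hi))
    refine dvd_trans ?_ (Subgroup.card_dvd_of_le h3)
    rw [ha]
    refine dvd_pow_self 2 ?_
    rintro rfl
    rw [pow_zero, Subgroup.card_eq_one] at ha
    exact X_ne_bot R (isRoot_sr cs h i) ha
  obtain ⟨k, hk⟩ := hN.pow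
  obtain ⟨θ, hθ, hθ1⟩ := exists_os_ne_one h2 (rAut_pow_eq_one (hN.fixMJ hG hK) hk)
  obtain ⟨χ, hχ, hms⟩ := os_lift R hG hN hK hθ
  refine ⟨χ, hχ, ?_, hasFix_VJ R hχ.odd.1 hms⟩
  rintro rfl
  exact hms (ms_one_eq_zero _ _ hθ.odd.1 hθ1)

/-- `Cusp` and `OS` -/
def OCS [Finite W] [Finite Y] (hG : GG cs h T X = ⊤) {β : MulAut Y} {σ : Equiv.Perm I} (hN : Nrm R β σ)
    {K : Set I} (hK : σ '' K = K) : Prop :=
  ∃ θ : ↥(MJ cs h X K) → ℂ, Cusp cs h X K θ ∧ OS (rAut β (hN.fixMJ hG hK)) θ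

/-- **`OS` characters of type `K`.** -/
theorem os_HT [Finite W] [Finite Y] (hG : GG cs h T X = ⊤) {β : MulAut Y} {σ : Equiv.Perm I} (hN : Nrm R β σ)
    {K : Set I} (hK : σ '' K = K) (hC : OCS R hG hN hK) : ∃ χ : Y → ℂ, OS β χ ∧ HT cs h X χ K := by
  classical
  have : Fintype Y := Fintype.ofFinite Y
  have : Fintype (VJ cs h X K) := Fintype.ofFinite _
  have : Fintype (MJ cs h X K) := Fintype.ofFinite _
  obtain ⟨θ, hθc, hθ⟩ := hC
  obtain ⟨χ, hχ, hms⟩ := os_lift R hG hN hK hθ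
  exact ⟨χ, hχ, HT.of_sum R hG K hθc.irr hθc.van hχ.odd.1 hms⟩

omit R in
theorem hasFix_one [Finite Y] (V : Subgroup Y) : HasFix (1 : Y → ℂ) V := by
  have : Fintype V := Fintype.ofFinite V
  refine ⟨this, ?_⟩
  simp

omit R in
theorem ne_of_type {χ χ' : Y → ℂ} {K J : Set I} (hχ : HasFix χ (VJ cs h X J)) (hχ' : HT cs h X χ' K)
    (hKJ : ¬ Assoc cs h K J) : χ ≠ χ' := by
  rintro rfl
  exact hKJ (hχ'.le J hχ)

/-- Two types. -/
theorem gInv3_of_types [Finite W] [Finite Y] (hG : GG cs h T X = ⊤) (hT : H601.OddDeg.TwoC Y) {β : MulAut Y}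
    {σ : Equiv.Perm I} (hN : Nrm R β σ) {K J : Set I} (hK : σ '' K = K) (hJ : σ '' J = J) (hJne : J.Nonempty)
    (hC : OCS R hG hN hK) (hKJ : ¬ Assoc cs h K J) : GInv3 β := by
  obtain ⟨χ₁, h1, h11, hf⟩ := os_type R hG hN hJ hJne
  obtain ⟨χ₂, h2, ht⟩ := os_HT R hG hN hK hC
  exact GInv3.of_os hT (one_os β) h1 h2 (Ne.symm h11) (ne_of_type (hasFix_one _) ht hKJ) (ne_of_type hf ht hKJ)

/-- **Theorem E.** -/
theorem gInv3_edge [Finite W] [Finite Y] (hG : GG cs h T X = ⊤) (hT : H601.OddDeg.TwoC Y) {β : MulAut Y}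
    {σ : Equiv.Perm I} (hN : Nrm R β σ) {i j : I} (hij : i ≠ j) (hi : σ i = i) (hK : σ '' {i, j} = {i, j})
    (hC : OCS R hG hN hK) : GInv3 β := by
  refine gInv3_of_types R hG hT hN hK (J := {i}) (by rw [Set.image_singleton, hi]) (Set.singleton_nonempty i) hC ?_
  intro hA
  have h1 := hA.ncard
  rw [Set.ncard_pair hij, Set.ncard_singleton] at h1
  omega

end rgd

end Cfsg.Agent.H307.QE
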